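import Cfsg.Agent.Lib.Fus.Fi24Model.Defs

/-! Checks for the model of Fi24 on 306936 points. -/

set_option autoImplicit false
set_option maxRecDepth 100000
set_option maxHeartbeats 4000000
set_option Elab.async false

open Cfsg.Agent.Spor.Cos

namespace Cfsg.Agent.Fus.Fi24Model

theorem chkK_blk8 : allBlock chkK 306936 4096 8 = true := by decide +kernel

theorem chkK_blk9 : allBlock chkK 306936 4096 9 = true := by decide +kernel

theorem chkK_blk10 : allBlock chkK 306936 4096 10 = true := by decide +kernel

theorem chkK_blk11 : allBlock chkK 306936 4096 11 = true := by decide +kernel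

theorem chkK_blk12 : allBlock chkK 306936 4096 12 = true := by decide +kernel

theorem chkK_blk13 : allBlock chkK 306936 4096 13 = true := by decide +kernel

theorem chkK_blk14 : allBlock chkK 306936 4096 14 = true := by decide +kernel

theorem chkK_blk15 : allBlock chkK 306936 4096 15 = true := by decide +kernel

end Cfsg.Agent.Fus.Fi24Model
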