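import Cfsg.Agent.Lib.Fus.Fi24Model.Defs

/-! Checks for the model of Fi24 on 306936 points. -/

set_option autoImplicit false
set_option maxRecDepth 100000
set_option maxHeartbeats 4000000
set_option Elab.async false

open Cfsg.Agent.Spor.Cos

namespace Cfsg.Agent.Fus.Fi24Model

theorem chkK_blk40 : allBlock chkK 306936 4096 40 = true := by decide +kernel

theorem chkK_blk41 : allBlock chkK 306936 4096 41 = true := by decide +kernel

theorem chkK_blk42 : allBlock chkK 306936 4096 42 = true := by decide +kernel

theorem chkK_blk43 : allBlock chkK 306936 4096 43 = true := by decide +kernel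

theorem chkK_blk44 : allBlock chkK 306936 4096 44 = true := by decide +kernel

theorem chkK_blk45 : allBlock chkK 306936 4096 45 = true := by decide +kernel

theorem chkK_blk46 : allBlock chkK 306936 4096 46 = true := by decide +kernel

theorem chkK_blk47 : allBlock chkK 306936 4096 47 = true := by decide +kernel

end Cfsg.Agent.Fus.Fi24Model
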