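import Cfsg.Agent.Lib.Fus.Fi24Model.Defs

/-! Checks for the model of Fi24 on 306936 points. -/

set_option autoImplicit false
set_option maxRecDepth 100000
set_option maxHeartbeats 4000000
set_option Elab.async false

open Cfsg.Agent.Spor.Cos

namespace Cfsg.Agent.Fus.Fi24Model

theorem chkK_blk56 : allBlock chkK 306936 4096 56 = true := by decide +kernel

theorem chkK_blk57 : allBlock chkK 306936 4096 57 = true := by decide +kernel

theorem chkK_blk58 : allBlock chkK 306936 4096 58 = true := by decide +kernel

theorem chkK_blk59 : allBlock chkK 306936 4096 59 = true := by decide +kernel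

theorem chkK_blk60 : allBlock chkK 306936 4096 60 = true := by decide +kernel

theorem chkK_blk61 : allBlock chkK 306936 4096 61 = true := by decide +kernel

theorem chkK_blk62 : allBlock chkK 306936 4096 62 = true := by decide +kernel

theorem chkK_blk63 : allBlock chkK 306936 4096 63 = true := by decide +kernel

end Cfsg.Agent.Fus.Fi24Model
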