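import Cfsg.Agent.Lib.Fus.Fi24Model.Defs

/-! Checks for the model of Fi24 on 306936 points. -/

set_option autoImplicit false
set_option maxRecDepth 100000
set_option maxHeartbeats 4000000
set_option Elab.async false

open Cfsg.Agent.Spor.Cos

namespace Cfsg.Agent.Fus.Fi24Model

theorem chkK_blk64 : allBlock chkK 306936 4096 64 = true := by decide +kernel

theorem chkK_blk65 : allBlock chkK 306936 4096 65 = true := by decide +kernel

theorem chkK_blk66 : allBlock chkK 306936 4096 66 = true := by decide +kernel

theorem chkK_blk67 : allBlock chkK 306936 4096 67 = true := by decide +kernel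

theorem chkK_blk68 : allBlock chkK 306936 4096 68 = true := by decide +kernel

theorem chkK_blk69 : allBlock chkK 306936 4096 69 = true := by decide +kernel

theorem chkK_blk70 : allBlock chkK 306936 4096 70 = true := by decide +kernel

theorem chkK_blk71 : allBlock chkK 306936 4096 71 = true := by decide +kernel

end Cfsg.Agent.Fus.Fi24Model
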