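import Cfsg.Agent.Lib.Fus.Fi24Model.Defs

/-! Checks for the model of Fi24 on 306936 points. -/

set_option autoImplicit false
set_option maxRecDepth 100000
set_option maxHeartbeats 4000000
set_option Elab.async false

open Cfsg.Agent.Spor.Cos

namespace Cfsg.Agent.Fus.Fi24Model

theorem chkTA_blk0 : allBlock chkTA 275264 4096 0 = true := by decide +kernel

theorem chkTA_blk1 : allBlock chkTA 275264 4096 1 = true := by decide +kernel

theorem chkTA_blk2 : allBlock chkTA 275264 4096 2 = true := by decide +kernel

theorem chkTA_blk3 : allBlock chkTA 275264 4096 3 = true := by decide +kernel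

theorem chkTA_blk4 : allBlock chkTA 275264 4096 4 = true := by decide +kernel

theorem chkTA_blk5 : allBlock chkTA 275264 4096 5 = true := by decide +kernel

theorem chkTA_blk6 : allBlock chkTA 275264 4096 6 = true := by decide +kernel

theorem chkTA_blk7 : allBlock chkTA 275264 4096 7 = true := by decide +kernel

theorem chkTA_blk8 : allBlock chkTA 275264 4096 8 = true := by decide +kernel

theorem chkTA_blk9 : allBlock chkTA 275264 4096 9 = true := by decide +kernel

theorem chkTA_blk10 : allBlock chkTA 275264 4096 10 = true := by decide +kernel

theorem chkTA_blk11 : allBlock chkTA 275264 4096 11 = true := by decide +kernel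

theorem chkTA_blk12 : allBlock chkTA 275264 4096 12 = true := by decide +kernel

theorem chkTA_blk13 : allBlock chkTA 275264 4096 13 = true := by decide +kernel

theorem chkTA_blk14 : allBlock chkTA 275264 4096 14 = true := by decide +kernel

theorem chkTA_blk15 : allBlock chkTA 275264 4096 15 = true := by decide +kernel

theorem chkTA_blk16 : allBlock chkTA 275264 4096 16 = true := by decide +kernel

theorem chkTA_blk17 : allBlock chkTA 275264 4096 17 = true := by decide +kernel

theorem chkTA_blk18 : allBlock chkTA 275264 4096 18 = true := by decide +kernel

theorem chkTA_blk19 : allBlock chkTA 275264 4096 19 = true := by decide +kernel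

theorem chkTA_blk20 : allBlock chkTA 275264 4096 20 = true := by decide +kernel

theorem chkTA_blk21 : allBlock chkTA 275264 4096 21 = true := by decide +kernel

theorem chkTA_blk22 : allBlock chkTA 275264 4096 22 = true := by decide +kernel

theorem chkTA_blk23 : allBlock chkTA 275264 4096 23 = true := by decide +kernel

theorem chkTA_blk24 : allBlock chkTA 275264 4096 24 = true := by decide +kernel

theorem chkTA_blk25 : allBlock chkTA 275264 4096 25 = true := by decide +kernel

theorem chkTA_blk26 : allBlock chkTA 275264 4096 26 = true := by decide +kernel

theorem chkTA_blk27 : allBlock chkTA 275264 4096 27 = true := by decide +kernel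

theorem chkTA_blk28 : allBlock chkTA 275264 4096 28 = true := by decide +kernel

theorem chkTA_blk29 : allBlock chkTA 275264 4096 29 = true := by decide +kernel

theorem chkTA_blk30 : allBlock chkTA 275264 4096 30 = true := by decide +kernel

theorem chkTA_blk31 : allBlock chkTA 275264 4096 31 = true := by decide +kernel

theorem chkTA_blk32 : allBlock chkTA 275264 4096 32 = true := by decide +kernel

theorem chkTA_blk33 : allBlock chkTA 275264 4096 33 = true := by decide +kernel

end Cfsg.Agent.Fus.Fi24Model
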