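import Cfsg.Agent.Lib.Fus.Fi24Model.Defs

/-! Checks for the model of Fi24 on 306936 points. -/

set_option autoImplicit false
set_option maxRecDepth 100000
set_option maxHeartbeats 4000000
set_option Elab.async false

open Cfsg.Agent.Spor.Cos

namespace Cfsg.Agent.Fus.Fi24Model

theorem chkTA_blk34 : allBlock chkTA 275264 4096 34 = true := by decide +kernel

theorem chkTA_blk35 : allBlock chkTA 275264 4096 35 = true := by decide +kernel

theorem chkTA_blk36 : allBlock chkTA 275264 4096 36 = true := by decide +kernel

theorem chkTA_blk37 : allBlock chkTA 275264 4096 37 = true := by decide +kernel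

theorem chkTA_blk38 : allBlock chkTA 275264 4096 38 = true := by decide +kernel

theorem chkTA_blk39 : allBlock chkTA 275264 4096 39 = true := by decide +kernel

theorem chkTA_blk40 : allBlock chkTA 275264 4096 40 = true := by decide +kernel

theorem chkTA_blk41 : allBlock chkTA 275264 4096 41 = true := by decide +kernel

theorem chkTA_blk42 : allBlock chkTA 275264 4096 42 = true := by decide +kernel

theorem chkTA_blk43 : allBlock chkTA 275264 4096 43 = true := by decide +kernel

theorem chkTA_blk44 : allBlock chkTA 275264 4096 44 = true := by decide +kernel

theorem chkTA_blk45 : allBlock chkTA 275264 4096 45 = true := by decide +kernel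

theorem chkTA_blk46 : allBlock chkTA 275264 4096 46 = true := by decide +kernel

theorem chkTA_blk47 : allBlock chkTA 275264 4096 47 = true := by decide +kernel

theorem chkTA_blk48 : allBlock chkTA 275264 4096 48 = true := by decide +kernel

theorem chkTA_blk49 : allBlock chkTA 275264 4096 49 = true := by decide +kernel

theorem chkTA_blk50 : allBlock chkTA 275264 4096 50 = true := by decide +kernel

theorem chkTA_blk51 : allBlock chkTA 275264 4096 51 = true := by decide +kernel

theorem chkTA_blk52 : allBlock chkTA 275264 4096 52 = true := by decide +kernel

theorem chkTA_blk53 : allBlock chkTA 275264 4096 53 = true := by decide +kernel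

theorem chkTA_blk54 : allBlock chkTA 275264 4096 54 = true := by decide +kernel

theorem chkTA_blk55 : allBlock chkTA 275264 4096 55 = true := by decide +kernel

theorem chkTA_blk56 : allBlock chkTA 275264 4096 56 = true := by decide +kernel

theorem chkTA_blk57 : allBlock chkTA 275264 4096 57 = true := by decide +kernel

theorem chkTA_blk58 : allBlock chkTA 275264 4096 58 = true := by decide +kernel

theorem chkTA_blk59 : allBlock chkTA 275264 4096 59 = true := by decide +kernel

theorem chkTA_blk60 : allBlock chkTA 275264 4096 60 = true := by decide +kernel

theorem chkTA_blk61 : allBlock chkTA 275264 4096 61 = true := by decide +kernel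

theorem chkTA_blk62 : allBlock chkTA 275264 4096 62 = true := by decide +kernel

theorem chkTA_blk63 : allBlock chkTA 275264 4096 63 = true := by decide +kernel

theorem chkTA_blk64 : allBlock chkTA 275264 4096 64 = true := by decide +kernel

theorem chkTA_blk65 : allBlock chkTA 275264 4096 65 = true := by decide +kernel

theorem chkTA_blk66 : allBlock chkTA 275264 4096 66 = true := by decide +kernel

theorem chkTA_blk67 : allBlock chkTA 275264 4096 67 = true := by decide +kernel

end Cfsg.Agent.Fus.Fi24Model
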