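import Cfsg.Agent.Lib.Fus.Fi24Model.Defs

/-! Checks for the model of Fi24 on 306936 points. -/

set_option autoImplicit false
set_option maxRecDepth 100000
set_option maxHeartbeats 4000000
set_option Elab.async false

open Cfsg.Agent.Spor.Cos

namespace Cfsg.Agent.Fus.Fi24Model

theorem chkTP_blk0 : allBlock chkTP 31671 4096 0 = true := by decide +kernel

theorem chkTP_blk1 : allBlock chkTP 31671 4096 1 = true := by decide +kernel

theorem chkTP_blk2 : allBlock chkTP 31671 4096 2 = true := by decide +kernel

theorem chkTP_blk3 : allBlock chkTP 31671 4096 3 = true := by decide +kernel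

theorem chkTP_blk4 : allBlock chkTP 31671 4096 4 = true := by decide +kernel

theorem chkTP_blk5 : allBlock chkTP 31671 4096 5 = true := by decide +kernel

theorem chkTP_blk6 : allBlock chkTP 31671 4096 6 = true := by decide +kernel

theorem chkTP_blk7 : allBlock chkTP 31671 4096 7 = true := by decide +kernel

end Cfsg.Agent.Fus.Fi24Model
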