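import Cfsg.Agent.Lib.Fus.Fi24Model.Defs

/-! Checks for the model of Fi24 on 306936 points. -/

set_option autoImplicit false
set_option maxRecDepth 100000
set_option maxHeartbeats 4000000
set_option Elab.async false

open Cfsg.Agent.Spor.Cos

namespace Cfsg.Agent.Fus.Fi24Model

theorem chkW_blk78 : allBlock chkW 137632 1024 78 = true := by decide +kernel

theorem chkW_blk79 : allBlock chkW 137632 1024 79 = true := by decide +kernel

theorem chkW_blk80 : allBlock chkW 137632 1024 80 = true := by decide +kernel

theorem chkW_blk81 : allBlock chkW 137632 1024 81 = true := by decide +kernel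

theorem chkW_blk82 : allBlock chkW 137632 1024 82 = true := by decide +kernel

theorem chkW_blk83 : allBlock chkW 137632 1024 83 = true := by decide +kernel

end Cfsg.Agent.Fus.Fi24Model
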