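import Cfsg.Agent.Lib.Fus.Fi24Model.Defs

/-! Checks for the model of Fi24 on 306936 points. -/

set_option autoImplicit false
set_option maxRecDepth 100000
set_option maxHeartbeats 4000000
set_option Elab.async false

open Cfsg.Agent.Spor.Cos

namespace Cfsg.Agent.Fus.Fi24Model

theorem chkW_blk108 : allBlock chkW 137632 1024 108 = true := by decide +kernel

theorem chkW_blk109 : allBlock chkW 137632 1024 109 = true := by decide +kernel

theorem chkW_blk110 : allBlock chkW 137632 1024 110 = true := by decide +kernel

theorem chkW_blk111 : allBlock chkW 137632 1024 111 = true := by decide +kernel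

theorem chkW_blk112 : allBlock chkW 137632 1024 112 = true := by decide +kernel

theorem chkW_blk113 : allBlock chkW 137632 1024 113 = true := by decide +kernel

end Cfsg.Agent.Fus.Fi24Model
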